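import Cfsg.Agent.H141.ReeK.Form

/-!
# The alternating 3-form of the natural 7-dimensional module of the Ree groups (helper141)

* `tri` : the 3-form `y^T JF (Ad x) z`; `tri_self`, `tri_z23`, `tri_ne` : alternating, nonzero;
* `Pres M` : `M` preserves the form and the product; `Pres.inv` : then `M` preserves `tri`; `Pres.map`;
* **`pres`** : the elements of the Ree group preserve both.
-/

set_option autoImplicit false
set_option linter.unusedSectionVars false

namespace Cfsg.Agent.H141.ReeK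

open Matrix
open Cfsg.Lie Cfsg.Agent.ChevalleyStructure.Ree Cfsg.Agent.ChevalleyStructure.Ree.Words
  Cfsg.Agent.ChevalleyStructure.Ree.Gens Cfsg.Agent.ChevalleyStructure.Ree.Bracket
  Cfsg.Agent.ChevalleyStructure.Ree.Normal Cfsg.Agent.ChevalleyStructure.Ree.Bruhat

section general

variable {L : Type*} [Field L]

/-- the 3-form -/
noncomputable def tri (L : Type*) [Field L] : (Fin 7 → L) →ₗ[L] (Fin 7 → L) →ₗ[L] (Fin 7 → L) →ₗ[L] L :=
  (Matrix.toLinearMap₂' L).toLinearMap ∘ₗ (LinearMap.mulLeft L (JF L)) ∘ₗ AdL L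

theorem tri_apply (x y z : Fin 7 → L) : tri L x y z = y ⬝ᵥ ((JF L * Ad x) *ᵥ z) :=
  Matrix.toLinearMap₂'_apply' _ _ _

theorem tri_self (x z : Fin 7 → L) : tri L x x z = 0 := by
  rw [tri_apply, JF_mul_Ad, Matrix.dotProduct_mulVec, TT_self, zero_dotProduct]

theorem tri_z23 (h2 : (2 : L) ≠ 0) (x y : Fin 7 → L) : tri L x y y = 0 := by
  rw [tri_apply, JF_mul_Ad]
  have h1 : (TT x)ᵀ = -TT x := by
    ext i j
    rw [Matrix.transpose_apply, Matrix.neg_apply, TT_skew]
  have h3 : y ⬝ᵥ (TT x *ᵥ y) = -(y ⬝ᵥ (TT x *ᵥ y)) := by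
    conv_lhs => rw [Matrix.dotProduct_mulVec, ← Matrix.mulVec_transpose, h1, Matrix.neg_mulVec, neg_dotProduct,
      dotProduct_comm]
  have h4 : (2 : L) * (y ⬝ᵥ (TT x *ᵥ y)) = 0 := by linear_combination h3
  exact (mul_eq_zero.1 h4).resolve_left h2

theorem tri_val : tri L (Pi.single 3 1) (Pi.single 0 1) (Pi.single 6 1) = 1 := by
  rw [tri_apply, JF_mul_Ad, Matrix.mulVec_single_one, single_one_dotProduct]
  change TT (Pi.single 3 1 : Fin 7 → L) 0 6 = 1
  simp [TT]

theorem tri_ne : tri L ≠ 0 := by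
  intro h
  have h1 := tri_val (L := L)
  rw [h] at h1
  exact zero_ne_one h1

/-- `M` preserves the form and the product -/
structure Pres (M : Matrix (Fin 7) (Fin 7) L) : Prop where
  form : Mᵀ * JF L * M = JF L
  col : ∀ a, Ad (fun i => M i a) * M = M * Ad (Pi.single a 1)

theorem ad_of_col {M : Matrix (Fin 7) (Fin 7) L} (h : ∀ a, Ad (fun i => M i a) * M = M * Ad (Pi.single a 1))
    (x : Fin 7 → L) : Ad (M *ᵥ x) * M = M * Ad x := by
  have h1 : Ad (M *ᵥ x) = ∑ a, x a • Ad (fun i => M i a) := by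
    change AdL L (M *ᵥ x) = ∑ a, x a • AdL L (fun i => M i a)
    rw [Matrix.mulVec_eq_sum, map_sum]
    refine Finset.sum_congr rfl fun a _ => ?_
    rw [op_smul_eq_smul, map_smul]
    rfl
  rw [h1, Ad_single_sum x, Finset.sum_mul, Finset.mul_sum]
  refine Finset.sum_congr rfl fun a _ => ?_
  rw [smul_mul_assoc, h, mul_smul_comm]

theorem Pres.inv {M : Matrix (Fin 7) (Fin 7) L} (h : Pres M) (x y z : Fin 7 → L) :
    tri L (M *ᵥ x) (M *ᵥ y) (M *ᵥ z) = tri L x y z := by
  rw [tri_apply, tri_apply, Matrix.mulVec_mulVec, mul_assoc, ad_of_col h.col, ← Matrix.vecMul_transpose,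
    ← Matrix.dotProduct_mulVec, Matrix.mulVec_mulVec, ← mul_assoc, ← mul_assoc, h.form]

theorem Pres.quad {M : Matrix (Fin 7) (Fin 7) L} (h : Pres M) (x y : Fin 7 → L) :
    (M *ᵥ x) ⬝ᵥ (JF L *ᵥ (M *ᵥ y)) = x ⬝ᵥ (JF L *ᵥ y) := by
  rw [Matrix.mulVec_mulVec, ← Matrix.vecMul_transpose, ← Matrix.dotProduct_mulVec, Matrix.mulVec_mulVec, ← mul_assoc,
    h.form]

theorem Pres.mul {M N : Matrix (Fin 7) (Fin 7) L} (h : Pres M) (h' : Pres N) : Pres (M * N) where
  form := by
    rw [Matrix.transpose_mul]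
    calc Nᵀ * Mᵀ * JF L * (M * N) = Nᵀ * (Mᵀ * JF L * M) * N := by simp only [mul_assoc]
      _ = JF L := by rw [h.form, h'.form]
  col a := by
    have h1 : (fun i => (M * N) i a) = M *ᵥ fun i => N i a := by
      funext i
      rw [Matrix.mul_apply]
      rfl
    rw [h1, ← mul_assoc, ad_of_col h.col, mul_assoc, h'.col, mul_assoc]

theorem Ad_map {L' : Type*} [Field L'] (σ : L →+* L') (x : Fin 7 → L) : (Ad x).map σ = Ad (fun i => σ (x i)) := by
  ext i j
  rw [Matrix.map_apply]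
  fin_cases i <;> fin_cases j <;> simp [Ad, Am]

theorem JF_map {L' : Type*} [Field L'] (σ : L →+* L') : (JF L).map σ = JF L' := by
  ext i j
  rw [Matrix.map_apply]
  fin_cases i <;> fin_cases j <;> simp [JF]

theorem Pres.map {L' : Type*} [Field L'] (σ : L →+* L') {M : Matrix (Fin 7) (Fin 7) L} (h : Pres M) :
    Pres (M.map σ) where
  form := by
    have h1 := congrArg (fun X : Matrix (Fin 7) (Fin 7) L => X.map σ) h.form
    simp only [Matrix.map_mul, JF_map] at h1
    exact h1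
  col a := by
    have h1 := congrArg (fun X : Matrix (Fin 7) (Fin 7) L => X.map σ) (h.col a)
    simp only [Matrix.map_mul, Ad_map] at h1
    have h2 : (fun i => σ ((Pi.single a (1 : L) : Fin 7 → L) i)) = Pi.single a (1 : L') := by
      funext i
      rw [Pi.single_apply, Pi.single_apply]
      by_cases h : i = a
      · rw [if_pos h, if_pos h, map_one]
      · rw [if_neg h, if_neg h, map_zero]
    rw [h2] at h1
    exact h1

end general

section ree

variable {K : Type*} [Field K] {θ : K →+* K} {e : ℕ} (c : Ctx θ e)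
include c

theorem col_B {g : GL chevG2.Idx K} (hg : g ∈ twistedG2 K e) (a : Fin 7) :
    Ad (fun i => B g i a) * B g = B g * Ad (Pi.single a 1) := by
  have h1 := Good.equiv_S (c.good hg) a
  have h2 : (fun i : Fin 7 => if i = a then (1 : K) else 0) = Pi.single a 1 := by
    funext i
    rw [Pi.single_apply]
  unfold Good.gS Good.AS at h1
  rw [h2] at h1
  exact h1

theorem form_B {g : GL chevG2.Idx K} (hg : g ∈ twistedG2 K e) :
    (B g)ᵀ * JF K * B g = ((B g)ᵀ * JF K * B g) 0 6 • JF K := by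
  have hJ : (JF K)ᵀ = JF K := by
    ext i j
    rw [Matrix.transpose_apply]
    fin_cases i <;> fin_cases j <;> rfl
  refine form_unique c.h3 (fun i j => ?_) fun x i j => ?_
  · have h1 : ((B g)ᵀ * JF K * B g)ᵀ = (B g)ᵀ * JF K * B g := by
      rw [Matrix.transpose_mul, Matrix.transpose_mul, Matrix.transpose_transpose, hJ, mul_assoc]
    conv_rhs => rw [← h1]
    rfl
  · have h1 : (B g)ᵀ * JF K * B g * Ad x = (B g)ᵀ * TT (B g *ᵥ x) * B g := by
      rw [← JF_mul_Ad, mul_assoc, ← ad_of_col (col_B c hg)]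
      simp only [mul_assoc]
    have h2 : ((B g)ᵀ * TT (B g *ᵥ x) * B g)ᵀ = -((B g)ᵀ * TT (B g *ᵥ x) * B g) := by
      have h3 : (TT (B g *ᵥ x))ᵀ = -TT (B g *ᵥ x) := by
        ext i j
        rw [Matrix.transpose_apply, Matrix.neg_apply, TT_skew]
      rw [Matrix.transpose_mul, Matrix.transpose_mul, Matrix.transpose_transpose, h3, mul_assoc, Matrix.neg_mul,
        Matrix.mul_neg]
    rw [h1]
    have h4 := congrFun (congrFun h2 i) j
    rw [Matrix.transpose_apply, Matrix.neg_apply] at h4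
    rw [h4, add_neg_cancel]

/-- the multiplier -/
theorem form_mul {g h : GL chevG2.Idx K} (hg : (B g)ᵀ * JF K * B g = JF K) (hh : (B h)ᵀ * JF K * B h = JF K)
    (hh' : h ∈ twistedG2 K e) : (B (g * h))ᵀ * JF K * B (g * h) = JF K := by
  rw [c.B_mul hh', Matrix.transpose_mul]
  calc (B h)ᵀ * (B g)ᵀ * JF K * (B g * B h) = (B h)ᵀ * ((B g)ᵀ * JF K * B g) * B h := by simp only [mul_assoc]
    _ = JF K := by rw [hg, hh]

theorem corner (M : Matrix (Fin 7) (Fin 7) K) : (Mᵀ * JF K * M) 0 6 =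
    M 0 0 * M 6 6 + M 1 0 * M 5 6 + M 2 0 * M 4 6 - M 3 0 * M 3 6 + M 4 0 * M 2 6 + M 5 0 * M 1 6 + M 6 0 * M 0 6 := by
  rw [mul_assoc, Matrix.mul_apply, Fin.sum_univ_seven]
  simp only [Matrix.mul_apply, Fin.sum_univ_seven, Matrix.transpose_apply]
  simp [JF]
  ring

theorem form_U (t u v : K) : (B (wU e t u v))ᵀ * JF K * B (wU e t u v) = JF K := by
  rw [form_B c (wU_mem e t u v), corner c, c.B_diag, c.B_diag]
  have h : ∀ i : Fin 7, i < 6 → B (wU e t u v) i 6 = 0 := fun i hi => c.B_low t u v i 6 hi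
  rw [h 5 (by decide), h 4 (by decide), h 3 (by decide), h 2 (by decide), h 1 (by decide), h 0 (by decide)]
  simp

theorem form_N : (B (nU K))ᵀ * JF K * B (nU K) = JF K := by
  rw [form_B c c.nU_mem, corner c]
  simp [Ctx.B_nU]

theorem form_T (α : Kˣ) : (B (tU e α))ᵀ * JF K * B (tU e α) = JF K := by
  rw [form_B c (c.torus α), corner c, c.B_tU]
  have h0 : Matrix.diagonal (Good.dfun (phi θ c.h3) ((α : K) ^ 2 * phi θ c.h3 α)) 0 0 = (c.dd α)⁻¹ := rfl
  have h6 : Matrix.diagonal (Good.dfun (phi θ c.h3) ((α : K) ^ 2 * phi θ c.h3 α)) 6 6 = c.dd α := rfl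
  rw [h0, h6, inv_mul_cancel₀ (c.dd_ne α)]
  simp

/-- **The elements of the Ree group preserve the form and the product.** -/
theorem pres {g : GL chevG2.Idx K} (hg : g ∈ twistedG2 K e) : Pres (B g) := by
  refine ⟨?_, col_B c hg⟩
  rcases c.bruhat hg with ⟨t, u, v, α, rfl⟩ | ⟨t, u, v, α, t', u', v', rfl⟩
  · exact form_mul c (form_U c t u v) (form_T c α) (c.torus α)
  · exact form_mul c (form_mul c (form_mul c (form_U c t u v) (form_T c α) (c.torus α)) (form_N c) c.nU_mem)
      (form_U c t' u' v') (wU_mem _ _ _ _)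

end ree

end Cfsg.Agent.H141.ReeK
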