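import Cfsg.Agent.H141.ReeK.Model
import Cfsg.Agent.H141.ReeK.Tri
import Cfsg.Agent.H708.ReeSix

/-!
# Cores with socle a Ree group in characteristic three (helper141)

`P ≤ GL(ι, F)` a core, `char F = 3`, `Soc P ≃* ²G₂(K)`, `|K| = 3 ^ (2 m + 1)`, and the highest weight of the module
is a power of three.

* **`exists_int`** : `K ≅ F` (`σ`) and `F^ι ≅ F⁷` such that `P` becomes `σ(²G₂(K))`;
* **`exists_tri`** : the alternating 3-form.
-/

set_option autoImplicit false
set_option linter.unusedSectionVars false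
set_option linter.style.haveILetI false

namespace Cfsg.Agent.H141.ReeK

open Matrix
open Cfsg Cfsg.Geo Cfsg.Lie Cfsg.Agent.ChevalleyStructure.Ree Cfsg.Agent.ChevalleyStructure.Ree.Words
  Cfsg.Agent.ChevalleyStructure.Ree.Gens Cfsg.Agent.ChevalleyStructure.Ree.Normal
  Cfsg.Agent.ChevalleyStructure.Ree.Bruhat Cfsg.Agent.ChevalleyStructure.Ree.Blocks
  Cfsg.Agent.ChevalleyStructure.Ree.Bracket
  Cfsg.Agent.ChevalleyStructure.WordCheck Cfsg.Agent.ChevalleyStructure.WordEntry
  Cfsg.Agent.LieRecognition.ReeSylowThree Cfsg.Agent.FixBN.ReeSplit Cfsg.Agent.H905.Md Cfsg.Agent.H915.LD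
  Cfsg.Agent.H911

/-! ### traces -/

theorem check_42 : entryIs chevG2 3 0 6 wW (Sc 4) (Sc 2) (.neg (.pow xT 2)) = true := by decide +kernel

theorem check_51 : entryIs chevG2 3 0 6 wW (Sc 5) (Sc 1)
    (.add (.add (.neg (.pow xU 2)) (.mul xt xV)) (.mul (.mul xt xT) xU)) = true := by decide +kernel

section trace

variable {K : Type*} [Field K] {θ : K →+* K} {e : ℕ} (c : Ctx θ e)

include c in
theorem trace_wU_n (v : K) : (B (wU e 0 0 v * nU K)).trace = θ v ^ 2 - 1 := by
  have h42 : B (wU e 0 0 v) 4 2 = 0 :=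
    (W_entry c.h3 c.isTheta 0 0 v check_42).trans
      (by simp [PExpr.denote, Cfsg.Agent.ChevalleyStructure.ReeFixed.val, xT])
  have h51 : B (wU e 0 0 v) 5 1 = 0 :=
    (W_entry c.h3 c.isTheta 0 0 v check_51).trans
      (by simp [PExpr.denote, Cfsg.Agent.ChevalleyStructure.ReeFixed.val, xT, xU, xt, xV])
  have h60 : B (wU e 0 0 v) 6 0 = -θ v ^ 2 := by
    rw [B_row c]
    have hz : e ≠ 0 := by
      rintro rfl
      have h1 := c.theta_eq 0
      rw [pow_zero, map_zero] at h1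
      exact zero_ne_one h1
    simp [frow, c.theta_eq, zero_pow hz]
  have h33 : B (wU e 0 0 v) 3 3 = 1 := c.B_diag 0 0 v 3
  have h06 : B (wU e 0 0 v) 0 6 = 0 := c.B_low 0 0 v 0 6 (by decide)
  have h15 : B (wU e 0 0 v) 1 5 = 0 := c.B_low 0 0 v 1 5 (by decide)
  have h24 : B (wU e 0 0 v) 2 4 = 0 := c.B_low 0 0 v 2 4 (by decide)
  rw [Matrix.trace, Fin.sum_univ_seven]
  simp only [Matrix.diag_apply, c.B_mul_n]
  change -B (wU e 0 0 v) 0 6 + -B (wU e 0 0 v) 1 5 + -B (wU e 0 0 v) 2 4 + -B (wU e 0 0 v) 3 3 +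
    -B (wU e 0 0 v) 4 2 + -B (wU e 0 0 v) 5 1 + -B (wU e 0 0 v) 6 0 = _
  rw [h42, h51, h60, h33, h06, h15, h24]
  ring

end trace

/-! ### descent -/

section descent

variable {F : Type*} [Field F] {k : Type*} [Field k] [Algebra F k] {ι : Type} [Fintype ι] [DecidableEq ι]
  {Y : Type*} [Group Y] {κ : Type} [Fintype κ] [DecidableEq κ]

/-- an isomorphism over an extension field gives one over the field (irreducible representation) -/
theorem exists_descent {φ : Y →* GL ι F} (hirr : ActsIrreducibly (matrixSet φ.range)) {M : Y → Matrix κ κ F}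
    (Ψ : (ι → k) ≃ₗ[k] (κ → k))
    (hΨ : ∀ g x, Ψ (((φ g : Matrix ι ι F).map (algebraMap F k)).mulVec x) = ((M g).map (algebraMap F k)).mulVec (Ψ x)) :
    ∃ Ξ : (ι → F) ≃ₗ[F] (κ → F), ∀ g x, Ξ ((φ g : Matrix ι ι F).mulVec x) = (M g).mulVec (Ξ x) := by
  classical
  have hcard : Fintype.card ι = Fintype.card κ := by
    have h1 := Ψ.finrank_eq
    rwa [Module.finrank_fintype_fun_eq_card, Module.finrank_fintype_fun_eq_card] at h1
  rcases isEmpty_or_nonempty ι with he | hne
  · have hκ : IsEmpty κ := Fintype.card_eq_zero_iff.1 (by rw [← hcard]; exact Fintype.card_eq_zero)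
    exact ⟨LinearEquiv.ofFinrankEq _ _ (by
      rw [Module.finrank_fintype_fun_eq_card, Module.finrank_fintype_fun_eq_card, hcard]), fun g x => Subsingleton.elim _ _⟩
  -- a nonzero entry
  obtain ⟨i₀⟩ := hne
  have h0 : Ψ (Pi.single i₀ 1) ≠ 0 := by
    rw [Ne, LinearEquiv.map_eq_zero_iff]
    exact Pi.single_ne_zero_iff.2 one_ne_zero
  obtain ⟨a₀, ha₀⟩ := Function.ne_iff.1 h0
  obtain ⟨l, hl⟩ : ∃ l : Module.Dual F k, l (Ψ (Pi.single i₀ 1) a₀) ≠ 0 := by
    by_contra hcon
    push Not at hcon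
    exact ha₀ ((Module.forall_dual_apply_eq_zero_iff F _).1 hcon)
  let up : (ι → F) → (ι → k) := fun v i => algebraMap F k (v i)
  let Ξ₀ : (ι → F) →ₗ[F] (κ → F) :=
    { toFun := fun v a => l (Ψ (up v) a)
      map_add' := fun v w => by
        funext a
        have h1 : up (v + w) = up v + up w := by
          funext i
          exact map_add _ _ _
        rw [h1, map_add, Pi.add_apply, map_add]
        rfl
      map_smul' := fun r v => by
        funext a
        have h1 : up (r • v) = algebraMap F k r • up v := by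
          funext i
          exact map_mul _ _ _
        rw [h1, map_smul, Pi.smul_apply, algebraMap_smul, map_smul]
        rfl }
  have hint : ∀ g x, Ξ₀ ((φ g : Matrix ι ι F).mulVec x) = (M g).mulVec (Ξ₀ x) := by
    intro g x
    funext a
    have h1 : up ((φ g : Matrix ι ι F).mulVec x) = ((φ g : Matrix ι ι F).map (algebraMap F k)).mulVec (up x) := by
      funext i
      change algebraMap F k (∑ j, (φ g : Matrix ι ι F) i j * x j) = ∑ j, algebraMap F k ((φ g : Matrix ι ι F) i j) * _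
      rw [map_sum]
      exact Finset.sum_congr rfl fun j _ => map_mul _ _ _
    change l (Ψ (up ((φ g : Matrix ι ι F).mulVec x)) a) = ∑ b, M g a b * l (Ψ (up x) b)
    rw [h1, hΨ]
    change l (∑ b, algebraMap F k (M g a b) * Ψ (up x) b) = _
    rw [map_sum]
    refine Finset.sum_congr rfl fun b _ => ?_
    rw [← Algebra.smul_def, map_smul, smul_eq_mul]
  have hne : Ξ₀ (Pi.single i₀ 1) ≠ 0 := by
    intro h1
    apply hl
    have h2 : up (Pi.single i₀ 1) = Pi.single i₀ 1 := by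
      funext i
      change algebraMap F k ((Pi.single i₀ (1 : F) : ι → F) i) = (Pi.single i₀ (1 : k) : ι → k) i
      rw [Pi.single_apply, Pi.single_apply]
      by_cases h : i = i₀
      · rw [if_pos h, if_pos h, map_one]
      · rw [if_neg h, if_neg h, map_zero]
    have h3 := congrFun h1 a₀
    change l (Ψ (up (Pi.single i₀ 1)) a₀) = 0 at h3
    rwa [h2] at h3
  have hker : LinearMap.ker Ξ₀ = ⊥ := by
    rcases hirr (LinearMap.ker Ξ₀) (by
      rintro _ ⟨_, ⟨g, rfl⟩, rfl⟩
      rw [Submodule.map_le_iff_le_comap]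
      intro x hx
      rw [LinearMap.mem_ker] at hx
      rw [Submodule.mem_comap, LinearMap.mem_ker, Matrix.toLin'_apply]
      exact (hint g x).trans (by rw [hx, Matrix.mulVec_zero])) with h | h
    · exact h
    · exfalso
      apply hne
      have : (Pi.single i₀ 1 : ι → F) ∈ LinearMap.ker Ξ₀ := by rw [h]; trivial
      exact this
  refine ⟨LinearEquiv.ofInjectiveOfFinrankEq Ξ₀ (LinearMap.ker_eq_bot.1 hker) (by
    rw [Module.finrank_fintype_fun_eq_card, Module.finrank_fintype_fun_eq_card, hcard]), fun g x => ?_⟩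
  exact hint g x

end descent

/-! ### the core -/

section main

variable {F : Type*} [Field F] [Finite F] {ι : Type} [Fintype ι] [DecidableEq ι] {P : Subgroup (GL ι F)}
  {K : Type*} [Field K] [Fintype K] {m : ℕ}

/-- the numeric statement: the highest weight is a power of three -/
def Num (F : Type*) [Field F] (ι : Type) (K : Type*) [Field K] [Fintype K] (m : ℕ) : Prop :=
  ∀ (j : K →+* AlgebraicClosure F) (r : ℕ), 1 ≤ r → r ≤ Fintype.card K - 1 →
    ∀ (f : K → K → K → Module.Dual (AlgebraicClosure F) (ι → AlgebraicClosure F))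
      (w : K → K → K → (ι → AlgebraicClosure F)),
      (∀ t u v t' u' v', f t u v (w t' u' v') = j (ker (3 ^ m) t u v t' u' v') ^ r) → ∃ i, r = 3 ^ i

/-- a field containing both -/
theorem exists_emb (F : Type*) [Field F] [CharP F 3] (hK : Fintype.card K = 3 ^ (2 * m + 1)) :
    Nonempty (K →+* AlgebraicClosure F) := by
  haveI : Fact (Nat.Prime 3) := ⟨Nat.prime_three⟩
  haveI : CharP K 3 := by
    obtain ⟨θ, c⟩ := exists_ctx hK
    have h3 := c.h3
    exact (CharP.charP_iff_prime_eq_zero Nat.prime_three).2 (by exact_mod_cast h3)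
  let _ : Algebra (ZMod 3) K := ZMod.algebra K 3
  have hk : CharP (AlgebraicClosure F) 3 := charP_of_injective_ringHom (algebraMap F (AlgebraicClosure F)).injective 3
  let _ : Algebra (ZMod 3) (AlgebraicClosure F) := ZMod.algebra (AlgebraicClosure F) 3
  exact ⟨(IsAlgClosed.lift (R := ZMod 3) (S := K) (M := AlgebraicClosure F)).toRingHom⟩

/-- **The coefficient of the highest weight of a core** (no bound on the dimension). -/
theorem core_coef [CharP F 3] (hC : Core P) (hm : 1 ≤ m) (hK : Fintype.card K = 3 ^ (2 * m + 1))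
    (e : Soc P ≃* ↥(twistedG2 K (3 ^ m))) {θ : K →+* K} (c : Ctx θ (3 ^ m)) (j : K →+* AlgebraicClosure F) :
    ∃ (φ : ↥(twistedG2 K (3 ^ m)) →* GL ι F) (v : ι → AlgebraicClosure F)
      (ψ : Module.Dual (AlgebraicClosure F) (ι → AlgebraicClosure F)) (r : ℕ), φ.range = P ∧ Function.Injective φ ∧
      1 ≤ r ∧ r ≤ Fintype.card K - 1 ∧ ψ v = 1 ∧
      (∀ t u w, lin (acRep φ) (Data.U K (3 ^ m) t u w) v = v) ∧
      (∀ α : Kˣ, lin (acRep φ) (Data.T c α) v = j (c.dd α) ^ r • v) ∧
      (∀ t u w x, ψ (lin (acRep φ) (Data.N c * Data.U K (3 ^ m) t u w * Data.N c) x) = ψ x) ∧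
      ψ (lin (acRep φ) (Data.N c) v) = 0 ∧
      (∀ g, ψ (lin (acRep φ) g v) = j (BB g 6 6) ^ r) ∧
      ∀ t u w t' u' w', ψ (lin (acRep φ) (Data.U K (3 ^ m) t u w) (lin (acRep φ)
        (Data.N c * Data.U K (3 ^ m) t' u' w' * Data.N c) v)) = j (ker (3 ^ m) t u w t' u' w') ^ r := by
  haveI : Fact (Nat.Prime 3) := ⟨Nat.prime_three⟩
  haveI := hC.nonempty
  haveI hk : CharP (AlgebraicClosure F) 3 :=
    charP_of_injective_ringHom (algebraMap F (AlgebraicClosure F)).injective 3
  obtain ⟨φ, hφ, hinj⟩ := H708.ReeSix.exists_hom hC hm hK e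
  obtain ⟨v, ψ, r, h1, h2, h3, h4, h5, h6, h7, h8⟩ := exists_coef' (V := ι → AlgebraicClosure F)
    (ρ := lin (acRep φ)) c hK j
    (fun L hL => acRep_irr hφ (H920.span_eq_top hC.absIrred) rfl L fun g _ v hv => hL g v hv)
    (by rw [Module.finrank_fintype_fun_eq_card]; exact hC.two_le)
  refine ⟨φ, v, ψ, r, hφ, hinj, h1, h2, h3, h4, h5, h6, h7, h8, fun t u w t' u' w' => ?_⟩
  have h9 : lin (acRep φ) (Data.U K (3 ^ m) t u w) (lin (acRep φ)
      (Data.N c * Data.U K (3 ^ m) t' u' w' * Data.N c) v) = lin (acRep φ) (Data.U K (3 ^ m) t u w *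
      (Data.N c * Data.U K (3 ^ m) t' u' w' * Data.N c)) v := by
    rw [map_mul (lin (acRep φ)) (Data.U K (3 ^ m) t u w)]
    rfl
  rw [h9, h8, BB_ker c]

theorem exists_int [CharP F 3] (hC : Core P) (hm : 1 ≤ m) (hK : Fintype.card K = 3 ^ (2 * m + 1))
    (e : Soc P ≃* ↥(twistedG2 K (3 ^ m))) (hnum : Num F ι K m) :
    ∃ (φ : ↥(twistedG2 K (3 ^ m)) →* GL ι F) (σ : K →+* F) (Ξ : (ι → F) ≃ₗ[F] (Fin 7 → F)), φ.range = P ∧
      Function.Injective φ ∧ Function.Bijective σ ∧
        ∀ g x, Ξ ((φ g : Matrix ι ι F).mulVec x) = ((BB g).map σ).mulVec (Ξ x) := by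
  classical
  haveI : Fact (Nat.Prime 3) := ⟨Nat.prime_three⟩
  haveI := hC.nonempty
  haveI hk : CharP (AlgebraicClosure F) 3 :=
    charP_of_injective_ringHom (algebraMap F (AlgebraicClosure F)).injective 3
  obtain ⟨θ, c⟩ := exists_ctx hK
  obtain ⟨j⟩ := exists_emb F hK
  obtain ⟨φ, hφ, hinj⟩ := H708.ReeSix.exists_hom hC hm hK e
  obtain ⟨τ, Ψ, hΨ⟩ := exists_model_of_pow (V := ι → AlgebraicClosure F) (ρ := lin (acRep φ)) c hK j
    (fun L hL => acRep_irr hφ (H920.span_eq_top hC.absIrred) rfl L fun g _ v hv => hL g v hv)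
    (by rw [Module.finrank_fintype_fun_eq_card]; exact hC.two_le) (fun r h1 h2 => hnum j r h1 h2)
  -- traces
  have htr : ∀ g, algebraMap F (AlgebraicClosure F) (tr (φ g)) = τ (BB g).trace := by
    intro g
    have h1 : algebraMap F (AlgebraicClosure F) (tr (φ g)) =
        LinearMap.trace (AlgebraicClosure F) (ι → AlgebraicClosure F) (lin (acRep φ) g) := by
      rw [trace_lin, trace_acRep]
      rfl
    have h2 : Matrix.toLin' ((BB g).map τ) = Ψ.conj (lin (acRep φ) g) := by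
      refine LinearMap.ext fun x => ?_
      rw [LinearEquiv.conj_apply_apply, hΨ, LinearEquiv.apply_symm_apply, Matrix.toLin'_apply]
    rw [h1, ← LinearMap.trace_conj' (lin (acRep φ) g) Ψ, ← h2, Matrix.trace_toLin'_eq]
    exact (AddMonoidHom.map_trace τ (BB g)).symm
  -- `τ K ⊆ F`
  have hsq : ∀ x : K, ∃ y : F, algebraMap F (AlgebraicClosure F) y = τ (x ^ 2) := by
    intro x
    obtain ⟨v, rfl⟩ := c.exists_theta x
    refine ⟨tr (φ (Data.U K (3 ^ m) 0 0 v * Data.N c)) + 1, ?_⟩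
    rw [map_add, htr, map_one]
    change τ (B (wU (3 ^ m) 0 0 v * nU K)).trace + 1 = _
    rw [trace_wU_n c, map_sub, map_one, sub_add_cancel]
  have hF : ∀ x : K, τ x ∈ (algebraMap F (AlgebraicClosure F)).fieldRange := by
    intro x
    obtain ⟨y, hy⟩ := hsq (x + 1)
    obtain ⟨z, hz⟩ := hsq (x - 1)
    refine ⟨y - z, ?_⟩
    rw [map_sub, hy, hz, ← map_sub]
    congr 1
    linear_combination x * c.h3
  let E : F ≃+* (algebraMap F (AlgebraicClosure F)).fieldRange :=
    RingEquiv.ofBijective (algebraMap F (AlgebraicClosure F)).rangeRestrictField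
      ⟨(algebraMap F (AlgebraicClosure F)).rangeRestrictField.injective,
        (algebraMap F (AlgebraicClosure F)).rangeRestrictField_bijective.2⟩
  let σ : K →+* F := E.symm.toRingHom.comp (τ.codRestrict _ hF)
  have hσ : ∀ x, algebraMap F (AlgebraicClosure F) (σ x) = τ x := by
    intro x
    have h1 : E (σ x) = ⟨τ x, hF x⟩ := E.apply_symm_apply _
    exact congrArg Subtype.val h1
  -- `σ` is bijective
  have hbij : Function.Bijective σ := by
    haveI := Fintype.ofFinite F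
    rw [Fintype.bijective_iff_injective_and_card]
    refine ⟨σ.injective, le_antisymm (Fintype.card_le_of_injective σ σ.injective) ?_⟩
    rw [hK]
    refine hC.card_le 3 (by omega) fun g hg => ?_
    rw [← hφ] at hg
    obtain ⟨x, rfl⟩ := hg
    apply (algebraMap F (AlgebraicClosure F)).injective
    rw [map_pow, htr, ← map_pow, ← hK, FiniteField.pow_card]
  obtain ⟨Ξ, hΞ⟩ := exists_descent (k := AlgebraicClosure F) (φ := φ) (M := fun g => (BB g).map σ)
    (by rw [hφ]; exact hC.absIrred.1) Ψ (fun g x => by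
      have h1 := hΨ g x
      rw [lin_apply, acRep_apply] at h1
      rw [h1]
      congr 1
      ext a b
      exact (hσ _).symm)
  exact ⟨φ, σ, Ξ, hφ, hinj, hbij, hΞ⟩

/-- **The alternating 3-form.** -/
theorem exists_tri [CharP F 3] (hC : Core P) (hm : 1 ≤ m) (hK : Fintype.card K = 3 ^ (2 * m + 1))
    (e : Soc P ≃* ↥(twistedG2 K (3 ^ m))) (hnum : Num F ι K m) :
    Fintype.card ι = 7 ∧ Nat.card F = Nat.card K ∧
      ∃ f : (ι → F) →ₗ[F] (ι → F) →ₗ[F] (ι → F) →ₗ[F] F, (∀ x z, f x x z = 0) ∧ (∀ x y, f x y y = 0) ∧ f ≠ 0 ∧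
        ∀ g ∈ P, ∀ x y z, f ((g : Matrix ι ι F).mulVec x) ((g : Matrix ι ι F).mulVec y)
          ((g : Matrix ι ι F).mulVec z) = f x y z := by
  obtain ⟨θ, c⟩ := exists_ctx hK
  obtain ⟨φ, σ, Ξ, hφ, -, hσ, hΞ⟩ := exists_int hC hm hK e hnum
  have hcard : Fintype.card ι = 7 := by
    have h1 := Ξ.finrank_eq
    rwa [Module.finrank_fintype_fun_eq_card, Module.finrank_fintype_fun_eq_card, Fintype.card_fin] at h1
  have h2 : (2 : F) ≠ 0 := H708.ReeSix.two_ne_zero_of_char
  let f : (ι → F) →ₗ[F] (ι → F) →ₗ[F] (ι → F) →ₗ[F] F :=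
    { toFun := fun x => (tri F (Ξ x)).compl₁₂ Ξ.toLinearMap Ξ.toLinearMap
      map_add' := fun x y => by
        ext
        simp
      map_smul' := fun r x => by
        ext
        simp }
  have hf : ∀ x y z, f x y z = tri F (Ξ x) (Ξ y) (Ξ z) := fun _ _ _ => rfl
  refine ⟨hcard, (Nat.card_congr (Equiv.ofBijective _ hσ)).symm, f, fun x z => ?_, fun x y => ?_, ?_, ?_⟩
  · rw [hf, tri_self]
  · rw [hf, tri_z23 h2]
  · intro h
    have h1 := tri_val (L := F)
    rw [← Ξ.apply_symm_apply (Pi.single 3 1), ← Ξ.apply_symm_apply (Pi.single 0 1),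
      ← Ξ.apply_symm_apply (Pi.single 6 1), ← hf, h] at h1
    exact zero_ne_one h1
  · rintro _ hg x y z
    rw [← hφ] at hg
    obtain ⟨g, rfl⟩ := hg
    rw [hf, hf, hΞ, hΞ, hΞ]
    exact ((pres c g.2).map σ).inv _ _ _

end main

end Cfsg.Agent.H141.ReeK
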