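import Cfsg.Agent.H141.ReeK.Mat

/-!
# The alternating 3-form of the natural 7-dimensional module of the Ree groups (helper141)

* `Ad x` : the bracket with `x` on the 7-dimensional algebra (short root ideal of `g₂` in characteristic three);
  `JF` : the invariant symmetric form; `tri` : the 3-form `y^T JF (Ad x) z`.
* `tri_self`, `tri_z23`, `tri_ne` : alternating, nonzero;
* `Pres M` : `M` preserves the form and the product; `Pres.inv` : then `M` preserves `tri`; `Pres.map`;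
* **`pres`** : the elements of the Ree group preserve both.
-/

set_option autoImplicit false
set_option linter.unusedSectionVars false

namespace Cfsg.Agent.H141.ReeK

open Matrix
open Cfsg.Lie Cfsg.Agent.ChevalleyStructure.Ree Cfsg.Agent.ChevalleyStructure.Ree.Words
  Cfsg.Agent.ChevalleyStructure.Ree.Gens Cfsg.Agent.ChevalleyStructure.Ree.Bracket
  Cfsg.Agent.ChevalleyStructure.Ree.Normal Cfsg.Agent.ChevalleyStructure.Ree.Bruhat

section general

variable {L : Type*} [Field L]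

/-- the bracket on the short root ideal -/
def Ad (x : Fin 7 → L) : Matrix (Fin 7) (Fin 7) L := Am x (fun _ => 0)

/-- the invariant symmetric form -/
def JF (L : Type*) [Field L] : Matrix (Fin 7) (Fin 7) L :=
  !![0, 0, 0, 0, 0, 0, 1;
     0, 0, 0, 0, 0, 1, 0;
     0, 0, 0, 0, 1, 0, 0;
     0, 0, 0, -1, 0, 0, 0;
     0, 0, 1, 0, 0, 0, 0;
     0, 1, 0, 0, 0, 0, 0;
     1, 0, 0, 0, 0, 0, 0]

/-- `JF * Ad x` -/
def TT (x : Fin 7 → L) : Matrix (Fin 7) (Fin 7) L :=
  !![0, 0, 0, -x 6, -x 5, x 4, x 3;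
     0, 0, -x 6, x 5, 0, -x 3, x 2;
     0, x 6, 0, x 4, -x 3, 0, -x 1;
     x 6, -x 5, -x 4, 0, x 2, x 1, -x 0;
     x 5, 0, x 3, -x 2, 0, -x 0, 0;
     -x 4, x 3, 0, -x 1, x 0, 0, 0;
     -x 3, -x 2, x 1, x 0, 0, 0, 0]

theorem JF_mul_Ad (x : Fin 7 → L) : JF L * Ad x = TT x := by
  ext i j
  fin_cases i <;> fin_cases j <;> simp [JF, Ad, Am, TT, Matrix.mul_apply, Fin.sum_univ_seven]

theorem TT_skew (x : Fin 7 → L) (i j : Fin 7) : TT x j i = -TT x i j := by
  fin_cases i <;> fin_cases j <;> simp [TT]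

theorem TT_self (x : Fin 7 → L) : x ᵥ* TT x = 0 := by
  funext j
  fin_cases j <;> simp [TT, Matrix.vecMul, dotProduct, Fin.sum_univ_seven] <;> ring

theorem Ad_add (x y : Fin 7 → L) : Ad (x + y) = Ad x + Ad y := by
  ext i j
  rw [Matrix.add_apply]
  fin_cases i <;> fin_cases j <;> simp [Ad, Am] <;> ring

theorem Ad_smul (r : L) (x : Fin 7 → L) : Ad (r • x) = r • Ad x := by
  ext i j
  rw [Matrix.smul_apply]
  fin_cases i <;> fin_cases j <;> simp [Ad, Am]

/-- `Ad` as a linear map -/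
def AdL (L : Type*) [Field L] : (Fin 7 → L) →ₗ[L] Matrix (Fin 7) (Fin 7) L where
  toFun := Ad
  map_add' := Ad_add
  map_smul' := Ad_smul

theorem Ad_single_sum (x : Fin 7 → L) : Ad x = ∑ a, x a • Ad (Pi.single a (1 : L)) := by
  have h := LinearMap.pi_apply_eq_sum_univ (AdL L) x
  change Ad x = ∑ a, x a • Ad (fun j => if a = j then (1 : L) else 0) at h
  rw [h]
  refine Finset.sum_congr rfl fun a _ => ?_
  congr 2
  funext j
  rw [Pi.single_apply]
  by_cases h : a = j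
  · rw [if_pos h, if_pos h.symm]
  · rw [if_neg h, if_neg (fun h' => h h'.symm)]

section unique

variable (X : Matrix (Fin 7) (Fin 7) L) (i : Fin 7)

theorem XA3 (j : Fin 7) : (X * Ad (![0, 0, 0, 1, 0, 0, 0] : Fin 7 → L) : Matrix (Fin 7) (Fin 7) L) i j =
    ![-X i 0, X i 1, X i 2, 0, -X i 4, -X i 5, X i 6] j := by
  rw [Matrix.mul_apply, Fin.sum_univ_seven]
  fin_cases j <;> simp [Ad, Am]

theorem XA6 (j : Fin 7) : (X * Ad (![0, 0, 0, 0, 0, 0, 1] : Fin 7 → L) : Matrix (Fin 7) (Fin 7) L) i j =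
    ![-X i 3, X i 4, -X i 5, -X i 6, 0, 0, 0] j := by
  rw [Matrix.mul_apply, Fin.sum_univ_seven]
  fin_cases j <;> simp [Ad, Am]

theorem XA5 (j : Fin 7) : (X * Ad (![0, 0, 0, 0, 0, 1, 0] : Fin 7 → L) : Matrix (Fin 7) (Fin 7) L) i j =
    ![X i 2, X i 3, 0, X i 5, -X i 6, 0, 0] j := by
  rw [Matrix.mul_apply, Fin.sum_univ_seven]
  fin_cases j <;> simp [Ad, Am]

theorem XA4 (j : Fin 7) : (X * Ad (![0, 0, 0, 0, 1, 0, 0] : Fin 7 → L) : Matrix (Fin 7) (Fin 7) L) i j =
    ![-X i 1, 0, X i 3, X i 4, 0, X i 6, 0] j := by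
  rw [Matrix.mul_apply, Fin.sum_univ_seven]
  fin_cases j <;> simp [Ad, Am]

end unique

/-- the invariant forms are unique -/
theorem form_unique (h3 : (3 : L) = 0) {X : Matrix (Fin 7) (Fin 7) L} (hs : ∀ i j, X j i = X i j)
    (h : ∀ (x : Fin 7 → L) (i j : Fin 7), (X * Ad x : Matrix (Fin 7) (Fin 7) L) i j + (X * Ad x : Matrix (Fin 7) (Fin 7) L) j i = 0) : X = X 0 6 • JF L := by
  have e3 : ∀ i j, ![-X i 0, X i 1, X i 2, 0, -X i 4, -X i 5, X i 6] j +
      ![-X j 0, X j 1, X j 2, 0, -X j 4, -X j 5, X j 6] i = 0 := fun i j => by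
    rw [← XA3, ← XA3]; exact h _ i j
  have e6 : ∀ i j, ![-X i 3, X i 4, -X i 5, -X i 6, 0, 0, 0] j + ![-X j 3, X j 4, -X j 5, -X j 6, 0, 0, 0] i = 0 :=
    fun i j => by rw [← XA6, ← XA6]; exact h _ i j
  have e5 : ∀ i j, ![X i 2, X i 3, 0, X i 5, -X i 6, 0, 0] j + ![X j 2, X j 3, 0, X j 5, -X j 6, 0, 0] i = 0 :=
    fun i j => by rw [← XA5, ← XA5]; exact h _ i j
  have e4 : ∀ i j, ![-X i 1, 0, X i 3, X i 4, 0, X i 6, 0] j + ![-X j 1, 0, X j 3, X j 4, 0, X j 6, 0] i = 0 :=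
    fun i j => by rw [← XA4, ← XA4]; exact h _ i j
  have two : ∀ x : L, x + x = 0 → x = 0 := fun x hx => by linear_combination x * h3 - hx
  have two' : ∀ x : L, -x + -x = 0 → x = 0 := fun x hx => by linear_combination x * h3 + hx
  have x01 : X 0 1 = 0 := two' _ (e4 0 0)
  have x02 : X 0 2 = 0 := two _ (e5 0 0)
  have x14 : X 1 4 = 0 := two _ (e6 1 1)
  have x25 : X 2 5 = 0 := two' _ (e6 2 2)
  have x46 : X 4 6 = 0 := two' _ (e5 4 4)
  have x56 : X 5 6 = 0 := two _ (e4 5 5)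
  have x33 : X 3 3 = -X 0 6 := by
    have h1 : -X 0 6 + -X 3 3 = 0 := e6 0 3
    linear_combination -h1
  have x15 : X 1 5 = X 0 6 := by
    have h1 : X 1 5 + X 3 3 = 0 := e5 1 3
    linear_combination h1 - x33
  have x24 : X 2 4 = X 0 6 := by
    have h1 : -X 0 6 + X 4 2 = 0 := e5 0 4
    rw [hs 2 4] at h1
    linear_combination h1
  have x00 : X 0 0 = 0 := two' _ (e3 0 0)
  have x03 : X 0 3 = 0 := by
    have h1 : 0 + -X 3 0 = 0 := e3 0 3
    rw [hs 0 3] at h1
    linear_combination -h1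
  have x04 : X 0 4 = 0 := by
    have h1 : -X 0 4 + -X 4 0 = 0 := e3 0 4
    rw [hs 0 4] at h1
    exact two _ (by linear_combination -h1)
  have x05 : X 0 5 = 0 := by
    have h1 : -X 0 5 + -X 5 0 = 0 := e3 0 5
    rw [hs 0 5] at h1
    exact two _ (by linear_combination -h1)
  have x11 : X 1 1 = 0 := two _ (e3 1 1)
  have x12 : X 1 2 = 0 := by
    have h1 : X 1 2 + X 2 1 = 0 := e3 1 2
    rw [hs 1 2] at h1
    exact two _ h1
  have x13 : X 1 3 = 0 := by
    have h1 : 0 + X 3 1 = 0 := e3 1 3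
    rw [hs 1 3] at h1
    linear_combination h1
  have x16 : X 1 6 = 0 := by
    have h1 : X 1 6 + X 6 1 = 0 := e3 1 6
    rw [hs 1 6] at h1
    exact two _ h1
  have x22 : X 2 2 = 0 := two _ (e3 2 2)
  have x23 : X 2 3 = 0 := by
    have h1 : 0 + X 3 2 = 0 := e3 2 3
    rw [hs 2 3] at h1
    linear_combination h1
  have x26 : X 2 6 = 0 := by
    have h1 : X 2 6 + X 6 2 = 0 := e3 2 6
    rw [hs 2 6] at h1
    exact two _ h1
  have x34 : X 3 4 = 0 := by
    have h1 : -X 3 4 + 0 = 0 := e3 3 4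
    linear_combination -h1
  have x35 : X 3 5 = 0 := by
    have h1 : -X 3 5 + 0 = 0 := e3 3 5
    linear_combination -h1
  have x36 : X 3 6 = 0 := by
    have h1 : X 3 6 + 0 = 0 := e3 3 6
    linear_combination h1
  have x44 : X 4 4 = 0 := two' _ (e3 4 4)
  have x45 : X 4 5 = 0 := by
    have h1 : -X 4 5 + -X 5 4 = 0 := e3 4 5
    rw [hs 4 5] at h1
    exact two _ (by linear_combination -h1)
  have x55 : X 5 5 = 0 := two' _ (e3 5 5)
  have x66 : X 6 6 = 0 := two _ (e3 6 6)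
  have key : ∀ i j, i ≤ j → X i j = X 0 6 * JF L i j := by
    intro i j hij
    fin_cases i <;> fin_cases j <;> first
      | exact absurd hij (by decide)
      | simp [JF, x00, x01, x02, x03, x04, x05, x11, x12, x13, x14, x15, x16, x22, x23, x24, x25, x26, x33, x34, x35,
          x36, x44, x45, x46, x55, x56, x66]
  have hJ : ∀ i j, JF L j i = JF L i j := by
    intro i j
    fin_cases i <;> fin_cases j <;> rfl
  ext i j
  rw [Matrix.smul_apply, smul_eq_mul]
  rcases le_total i j with h1 | h1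
  · exact key i j h1
  · rw [← hs, ← hJ]; exact key j i h1

end general

end Cfsg.Agent.H141.ReeK
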