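import Mathlib

/-!
# The last row and the first column of the elements of `U` in the 7-dimensional module of the Ree groups (helper141)

`K` of order `3^(2m+1)`, `e = 3^m`, `T = t^e`, `U = u^e`, `V = v^e`.
-/

set_option autoImplicit false

namespace Cfsg.Agent.H141.ReeK

variable {K : Type*} [Field K]

/-- last row of `U(t,u,v)` -/
def frow (e : ℕ) (t u v : K) : Fin 7 → K :=
  ![-(v ^ e) ^ 2 - u * u ^ e + t ^ e * v - t ^ e * u ^ e * v ^ e - t * (t ^ e) ^ 3 * u ^ e + t ^ 2 * (t ^ e) ^ 4,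
    -v - u ^ e * v ^ e - t ^ e * (u ^ e) ^ 2 - t ^ 2 * (t ^ e) ^ 3,
    -u - t ^ e * v ^ e - t * (t ^ e) ^ 3,
    -v ^ e + t ^ e * u ^ e,
    -u ^ e,
    t ^ e,
    1]

/-- first column of `U(t,u,v)` -/
def fcol (e : ℕ) (t u v : K) : Fin 7 → K :=
  ![1,
    -t ^ e,
    u ^ e + t * t ^ e,
    -v ^ e + t ^ e * u ^ e,
    u - t ^ e * v ^ e - (t ^ e) ^ 2 * u ^ e + t * (t ^ e) ^ 3,
    v - u ^ e * v ^ e + t * u - t * t ^ e * v ^ e - t * (t ^ e) ^ 2 * u ^ e - t ^ 2 * (t ^ e) ^ 3,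
    -(v ^ e) ^ 2 - u * u ^ e + t ^ e * v - t ^ e * u ^ e * v ^ e - t * (t ^ e) ^ 3 * u ^ e + t ^ 2 * (t ^ e) ^ 4]

/-- the kernel: the `(6,6)` entry of `U(t,u,v) n U(t',u',v') n⁻¹` -/
def ker (e : ℕ) (t u v t' u' v' : K) : K := ∑ k : Fin 7, frow e t u v k * fcol e t' u' v' k.rev

end Cfsg.Agent.H141.ReeK
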