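import Cfsg.Agent.H141.ReeK.Core
import Cfsg.Agent.H909.ReeBound

/-!
# Ree groups in the defining characteristic, dimension at most twelve (helper141; numeric half: helper909)

`P ≤ GL(ι, F)` a core (`H915.LD.Core`), `char F = 3`, `Soc P ≃* ²G₂(K)`, `|K| = 3 ^ (2 m + 1)`, `m ≥ 1`, `|ι| ≤ 12`.

* **`ree_int`** : `K ≃ F` (`σ`) and `F^ι ≃ F⁷` such that `P` becomes the group of the matrices `σ(B g)`,
  `B` the natural 7-dimensional representation (`ChevalleyStructure/Ree/Normal`);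
* **`ree_tri`** : `|ι| = 7`, `|F| = |K|`, and `P` preserves a nonzero alternating trilinear form;
* **`ree_fixQ`** : `|ι| = 7`, `|F| = |K|`, `P` fixes a non-degenerate quadratic form; `ree_false` : `|ι| ≠ 7` is impossible.
-/

set_option autoImplicit false
set_option linter.unusedSectionVars false
set_option linter.style.haveILetI false

namespace Cfsg.Agent.H141.ReeK

open Matrix
open Cfsg Cfsg.Geo Cfsg.Lie Cfsg.Agent.H915.LD

variable {F : Type*} [Field F] [Finite F] [CharP F 3] {ι : Type} [Fintype ι] [DecidableEq ι] {P : Subgroup (GL ι F)}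
  {K : Type*} [Field K] [Fintype K] {m : ℕ}

theorem num_of_le (hm : 1 ≤ m) (hK : Fintype.card K = 3 ^ (2 * m + 1)) (hn : Fintype.card ι ≤ 12) : Num F ι K m := by
  haveI hk : CharP (AlgebraicClosure F) 3 :=
    charP_of_injective_ringHom (algebraMap F (AlgebraicClosure F)).injective 3
  exact fun j r h1 h2 f w h => H909.ReeKer.ree_bound j hm hK h1 h2 f w h
    (by rw [Module.finrank_fintype_fun_eq_card]; exact hn)

/-- **Ree groups in the defining characteristic, `n ≤ 12`**: the natural module. -/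
theorem ree_int (hC : Core P) (hm : 1 ≤ m) (hK : Fintype.card K = 3 ^ (2 * m + 1))
    (e : Soc P ≃* ↥(twistedG2 K (3 ^ m))) (hn : Fintype.card ι ≤ 12) :
    ∃ (φ : ↥(twistedG2 K (3 ^ m)) →* GL ι F) (σ : K →+* F) (Ξ : (ι → F) ≃ₗ[F] (Fin 7 → F)), φ.range = P ∧
      Function.Injective φ ∧ Function.Bijective σ ∧
        ∀ g x, Ξ ((φ g : Matrix ι ι F).mulVec x) = ((BB g).map σ).mulVec (Ξ x) :=
  exists_int hC hm hK e (num_of_le hm hK hn)

/-- **Ree groups in the defining characteristic, `n ≤ 12`**: the alternating 3-form. -/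
theorem ree_tri (hC : Core P) (hm : 1 ≤ m) (hK : Fintype.card K = 3 ^ (2 * m + 1))
    (e : Soc P ≃* ↥(twistedG2 K (3 ^ m))) (hn : Fintype.card ι ≤ 12) :
    Fintype.card ι = 7 ∧ Nat.card F = Nat.card K ∧
      ∃ f : (ι → F) →ₗ[F] (ι → F) →ₗ[F] (ι → F) →ₗ[F] F, (∀ x z, f x x z = 0) ∧ (∀ x y, f x y y = 0) ∧ f ≠ 0 ∧
        ∀ g ∈ P, ∀ x y z, f ((g : Matrix ι ι F).mulVec x) ((g : Matrix ι ι F).mulVec y)
          ((g : Matrix ι ι F).mulVec z) = f x y z :=
  exists_tri hC hm hK e (num_of_le hm hK hn)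

/-- **Ree groups in the defining characteristic, `n ≤ 12`**: the quadratic form. -/
theorem ree_fixQ (hC : Core P) (hm : 1 ≤ m) (hK : Fintype.card K = 3 ^ (2 * m + 1))
    (e : Soc P ≃* ↥(twistedG2 K (3 ^ m))) (hn : Fintype.card ι ≤ 12) :
    Fintype.card ι = 7 ∧ Nat.card F = Nat.card K ∧ SD P ∧ FixQ P := by
  obtain ⟨h1, h2, -⟩ := ree_tri hC hm hK e hn
  have h3 : SD P := fun g hg => (H905.Md.ree_both hC.absIrred hC.perfect hm hK e hg).2
  exact ⟨h1, h2, h3, hC.fixQ_of_sd (by rw [h1]; decide) h3⟩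

theorem ree_false (hC : Core P) (hm : 1 ≤ m) (hK : Fintype.card K = 3 ^ (2 * m + 1))
    (e : Soc P ≃* ↥(twistedG2 K (3 ^ m))) (hn : Fintype.card ι ≤ 12) (h7 : Fintype.card ι ≠ 7) : False :=
  h7 (ree_tri hC hm hK e hn).1

end Cfsg.Agent.H141.ReeK
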