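import Cfsg.Agent.ChevalleyStructure.Ree.Data
import Cfsg.Agent.H141.ReeK.Poly

/-!
# The last row and the first column of the elements of `U` in the 7-dimensional module of the Ree groups (helper141)

`B` : the 7-dimensional representation of `twistedG2 K e` (`ChevalleyStructure/Ree/Normal`).

* `B_row`, `B_col` : the last row and the first column of `B (wU e t u v)` are `frow`, `fcol`;
* `B_ker` : the `(6,6)` entry of `U(t,u,v) n U(t',u',v') n⁻¹`.
-/

set_option autoImplicit false
set_option linter.unusedSectionVars false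

namespace Cfsg.Agent.H141.ReeK

open Cfsg.Lie Cfsg.Agent.ChevalleyStructure.WordCheck Cfsg.Agent.ChevalleyStructure.WordEntry
open Cfsg.Agent.ChevalleyStructure.Ree Cfsg.Agent.ChevalleyStructure.Ree.Words
  Cfsg.Agent.ChevalleyStructure.Ree.Gens Cfsg.Agent.ChevalleyStructure.Ree.Blocks
  Cfsg.Agent.ChevalleyStructure.Ree.Bracket Cfsg.Agent.ChevalleyStructure.Ree.Checks
  Cfsg.Agent.ChevalleyStructure.Ree.Normal
open Cfsg.Agent.ChevalleyStructure (ReeFixed.val)

/-! ### symbolic entries -/

/-- `t` -/ def xt : PExpr := .var 0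
/-- `T` -/ def xT : PExpr := .var 1
/-- `u` -/ def xu : PExpr := .var 2
/-- `U` -/ def xU : PExpr := .var 3
/-- `v` -/ def xv : PExpr := .var 4
/-- `V` -/ def xV : PExpr := .var 5

/-- corner entry -/
def pCorner : PExpr :=
  .add (.add (.add (.add (.add (.neg (.pow xV 2)) (.neg (.mul xu xU))) (.mul xT xv))
    (.neg (.mul (.mul xT xU) xV))) (.neg (.mul (.mul xt (.pow xT 3)) xU))) (.mul (.pow xt 2) (.pow xT 4))

/-- last row -/
def pRow : Fin 7 → PExpr :=
  ![pCorner,
    .add (.add (.add (.neg xv) (.neg (.mul xU xV))) (.neg (.mul xT (.pow xU 2)))) (.neg (.mul (.pow xt 2) (.pow xT 3))),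
    .add (.add (.neg xu) (.neg (.mul xT xV))) (.neg (.mul xt (.pow xT 3))),
    .add (.neg xV) (.mul xT xU),
    .neg xU,
    xT,
    .const 1]

/-- first column -/
def pCol : Fin 7 → PExpr :=
  ![.const 1,
    .neg xT,
    .add xU (.mul xt xT),
    .add (.neg xV) (.mul xT xU),
    .add (.add (.add xu (.neg (.mul xT xV))) (.neg (.mul (.pow xT 2) xU))) (.mul xt (.pow xT 3)),
    .add (.add (.add (.add (.add xv (.neg (.mul xU xV))) (.mul xt xu)) (.neg (.mul (.mul xt xT) xV)))
      (.neg (.mul (.mul xt (.pow xT 2)) xU))) (.neg (.mul (.pow xt 2) (.pow xT 3))),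
    pCorner]

theorem check_row : ∀ k : Fin 7, entryIs chevG2 3 0 6 wW (Sc 6) (Sc k) (pRow k) = true := by decide +kernel

theorem check_col : ∀ k : Fin 7, entryIs chevG2 3 0 6 wW (Sc k) (Sc 0) (pCol k) = true := by decide +kernel

variable {K : Type*} [Field K] {θ : K →+* K} {e : ℕ}

theorem B_row (c : Ctx θ e) (t u v : K) (k : Fin 7) : B (wU e t u v) 6 k = frow e t u v k := by
  refine (W_entry c.h3 c.isTheta t u v (check_row k)).trans ?_
  fin_cases k <;>
    simp [pRow, pCorner, PExpr.denote, Cfsg.Agent.ChevalleyStructure.ReeFixed.val, frow, xt, xT, xu, xU, xv, xV,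
      c.theta_eq] <;> ring

theorem B_col (c : Ctx θ e) (t u v : K) (k : Fin 7) : B (wU e t u v) k 0 = fcol e t u v k := by
  refine (W_entry c.h3 c.isTheta t u v (check_col k)).trans ?_
  fin_cases k <;>
    simp [pCol, pCorner, PExpr.denote, Cfsg.Agent.ChevalleyStructure.ReeFixed.val, fcol, xt, xT, xu, xU, xv, xV,
      c.theta_eq] <;> ring

end Cfsg.Agent.H141.ReeK
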