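import Cfsg.Agent.H141.ReeK.Rep

/-!
# The 7-dimensional modules of the Ree groups in characteristic three (helper141)

`ρ` irreducible with highest weight coefficient `φ (ρ(g) v) = φ(v) τ(B(g)₆₆)`, `τ : K → k` a ring homomorphism.

* **`exists_model`** : `Ψ : V ≃ k⁷` with `Ψ (ρ(g) x) = τ(B g) Ψ(x)`.
-/

set_option autoImplicit false
set_option linter.unusedSectionVars false
set_option linter.style.haveILetI false

namespace Cfsg.Agent.H141.ReeK

open Cfsg.Lie Cfsg.Agent.ChevalleyStructure.Ree Cfsg.Agent.ChevalleyStructure.Ree.Words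
  Cfsg.Agent.ChevalleyStructure.Ree.Gens Cfsg.Agent.ChevalleyStructure.Ree.Normal
  Cfsg.Agent.ChevalleyStructure.Ree.Bruhat
  Cfsg.Agent.LieRecognition.ReeSylowThree Cfsg.Agent.FixBN.ReeSplit Cfsg.Agent.H905.Md

section model

variable {K : Type*} [Field K] [Fintype K] {m : ℕ} {θ : K →+* K} (c : Ctx θ (3 ^ m))
  {k V : Type*} [Field k] [CharP k 3] [AddCommGroup V] [Module k V]
  {ρ : ↥(twistedG2 K (3 ^ m)) →* Module.End k V}

theorem BB_N (i e : Fin 7) : BB (Data.N c) i e = if i.val + e.val = 6 then -1 else 0 := Ctx.B_nU i e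

theorem three_k : (3 : k) = 0 := by exact_mod_cast CharP.cast_eq_zero k 3

include c in
theorem row_indep (τ : K →+* k) (a : Fin 7 → k)
    (h : ∀ g : ↥(twistedG2 K (3 ^ m)), ∑ e, a e * τ (BB g 6 e) = 0) : a = 0 := by
  have h3 : (3 : k) = 0 := three_k
  have ho : Odd (3 ^ m) := Odd.pow (by decide)
  have hz : 3 ^ m ≠ 0 := by positivity
  have hU : ∀ t u v : K, ∑ e, a e * τ (frow (3 ^ m) t u v e) = 0 := by
    intro t u v
    rw [← h (Data.U K (3 ^ m) t u v)]
    exact Finset.sum_congr rfl fun e _ => by rw [BB_row c]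
  have hN := h (Data.N c)
  have h000 := hU 0 0 0
  have h001 := hU 0 0 1
  have h010 := hU 0 1 0
  have h100 := hU 1 0 0
  have hm00 := hU (-1) 0 0
  have h011 := hU 0 1 1
  simp only [BB_N, Fin.sum_univ_seven] at hN
  simp only [frow, Fin.sum_univ_seven, Matrix.cons_val_zero, Matrix.cons_val_one, Matrix.cons_val] at h000 h001 h010 h100 hm00 h011
  simp [zero_pow hz, ho.neg_one_pow] at hN h000 h001 h010 h100 hm00 h011
  have a3 : a 3 = -a 1 := by linear_combination -h001 - hN + h000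
  have a4 : a 4 = -a 2 := by linear_combination -h010 - hN + h000
  have a5 : a 5 = a 1 + a 2 := by linear_combination h100 - hN - h000
  have a2 : a 2 = 0 := by linear_combination hm00 - hN - h000 + a5 + a 2 * h3
  have a1 : a 1 = 0 := by linear_combination -h011 - 2 * hN + h000 - a2 - a3 - a4 + a2
  funext e
  fin_cases e
  · exact hN
  · exact a1
  · exact a2
  · exact a3.trans (by rw [a1, neg_zero]; rfl)
  · exact a4.trans (by rw [a2, neg_zero]; rfl)
  · exact a5.trans (by rw [a1, a2, add_zero]; rfl)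
  · exact h000

include c in
theorem col_indep (τ : K →+* k) (a : Fin 7 → k)
    (h : ∀ g : ↥(twistedG2 K (3 ^ m)), ∑ e, a e * τ (BB g e 6) = 0) : a = 0 := by
  have h3 : (3 : k) = 0 := three_k
  have ho : Odd (3 ^ m) := Odd.pow (by decide)
  have hz : 3 ^ m ≠ 0 := by positivity
  have hU : ∀ t u v : K, ∑ e : Fin 7, a e * τ (fcol (3 ^ m) t u v e.rev) = 0 := by
    intro t u v
    rw [← h (Data.N c * Data.U K (3 ^ m) t u v * Data.N c)]
    exact Finset.sum_congr rfl fun e _ => by rw [BB_col c]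
  have hN := h (Data.N c)
  have h000 := hU 0 0 0
  have h001 := hU 0 0 1
  have h010 := hU 0 1 0
  have h100 := hU 1 0 0
  have h110 := hU 1 1 0
  have h011 := hU 0 1 1
  simp only [BB_N, Fin.sum_univ_seven] at hN
  simp only [fcol, Fin.sum_univ_seven, Fin.rev] at h000 h001 h010 h100 h110 h011
  simp [zero_pow hz] at hN h000 h001 h010 h100 h110 h011
  have a3 : a 3 = 0 := by linear_combination h010 - h011 - hN
  have a1 : a 1 = 0 := by linear_combination h001 + hN - h000 + a3
  have a4 : a 4 = -a 2 := by linear_combination h010 + hN - h000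
  have a5 : a 5 = 0 := by linear_combination -h100 + hN + h000 - a1 + a4
  have a2 : a 2 = 0 := by linear_combination -h110 - hN + h000 - a1 + a3 + 2 * a4 - a5
  funext e
  fin_cases e
  · exact hN
  · exact a1
  · exact a2
  · exact a3
  · exact a4.trans (by rw [a2, neg_zero]; rfl)
  · exact a5
  · exact h000

include c in
/-- **The model.** -/
theorem exists_model [Finite ↥(twistedG2 K (3 ^ m))] (τ : K →+* k)
    (hirr : ∀ L : Submodule k V, (∀ g, ∀ v ∈ L, ρ g v ∈ L) → L = ⊥ ∨ L = ⊤) {v : V} {φ : Module.Dual k V}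
    (hφ : φ v ≠ 0) (hco : ∀ g, φ (ρ g v) = φ v * τ (BB g 6 6)) :
    ∃ Ψ : V ≃ₗ[k] (Fin 7 → k), ∀ g x, Ψ (ρ g x) = ((BB g).map τ).mulVec (Ψ x) := by
  have hv0 : v ≠ 0 := by
    rintro rfl
    exact hφ (map_zero _)
  obtain ⟨Ψ, hΨ⟩ := H861.SzN.exists_equiv (Y := ↥(twistedG2 K (3 ^ m))) (A := fun g e => τ (BB g 6 e))
    (B := fun g e => τ (BB g e 6)) hirr hφ hφ (fun g h => by
      rw [hco, BB_mul c, Matrix.mul_apply, map_sum]
      congr 1
      exact Finset.sum_congr rfl fun e _ => map_mul _ _ _)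
    (H861.SzN.span_of_li (Fintype.linearIndependent_iff.2 fun a ha e => congrFun (row_indep c τ a fun g => by
      have h1 := congrFun ha g
      rw [Finset.sum_apply] at h1
      exact h1) e))
    (H861.SzN.span_of_li (Fintype.linearIndependent_iff.2 fun a ha e => congrFun (col_indep c τ a fun g => by
      have h1 := congrFun ha g
      rw [Finset.sum_apply] at h1
      exact h1) e))
  have hV : Submodule.span k (Set.range fun h => ρ h v) = ⊤ := by
    refine (hirr _ fun g x hx => ?_).resolve_left fun h0 => ?_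
    · induction hx using Submodule.span_induction with
      | mem x hx =>
        obtain ⟨h, rfl⟩ := hx
        refine Submodule.subset_span ⟨g * h, ?_⟩
        change ρ (g * h) v = ρ g (ρ h v)
        rw [map_mul]
        rfl
      | zero => rw [map_zero]; exact zero_mem _
      | add x y _ _ h1 h2 => rw [map_add]; exact add_mem h1 h2
      | smul a x _ h1 => rw [map_smul]; exact Submodule.smul_mem _ _ h1
    · have h1 : v ∈ Submodule.span k (Set.range fun h => ρ h v) := Submodule.subset_span ⟨1, by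
        change ρ 1 v = v
        rw [map_one]; rfl⟩
      rw [h0, Submodule.mem_bot] at h1
      exact hv0 h1
  refine ⟨Ψ, fun g x => ?_⟩
  have hx : x ∈ Submodule.span k (Set.range fun h => ρ h v) := by rw [hV]; trivial
  induction hx using Submodule.span_induction with
  | mem x hx =>
    obtain ⟨h, rfl⟩ := hx
    change Ψ (ρ g (ρ h v)) = ((BB g).map τ).mulVec (Ψ (ρ h v))
    have h1 : ρ g (ρ h v) = ρ (g * h) v := by rw [map_mul]; rfl
    rw [h1, hΨ, hΨ]
    funext e
    rw [BB_mul c, Matrix.mul_apply, map_sum]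
    exact Finset.sum_congr rfl fun e _ => map_mul _ _ _
  | zero => simp
  | add x y _ _ h1 h2 => rw [map_add, map_add, h1, h2, map_add, Matrix.mulVec_add]
  | smul b x _ h1 => rw [map_smul, map_smul, h1, map_smul, Matrix.mulVec_smul]

include c in
/-- **The irreducible modules with highest weight `3 ^ i`.** -/
theorem exists_model_of_pow [IsAlgClosed k] [FiniteDimensional k V] (hK : Fintype.card K = 3 ^ (2 * m + 1))
    (j : K →+* k) (hirr : ∀ L : Submodule k V, (∀ g, ∀ v ∈ L, ρ g v ∈ L) → L = ⊥ ∨ L = ⊤)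
    (h2 : 2 ≤ Module.finrank k V)
    (hr : ∀ r, 1 ≤ r → r ≤ Fintype.card K - 1 → ∀ (f : K → K → K → Module.Dual k V) (w : K → K → K → V),
      (∀ t u v t' u' v', f t u v (w t' u' v') = j (ker (3 ^ m) t u v t' u' v') ^ r) → ∃ i, r = 3 ^ i) :
    ∃ (τ : K →+* k) (Ψ : V ≃ₗ[k] (Fin 7 → k)), ∀ g x, Ψ (ρ g x) = ((BB g).map τ).mulVec (Ψ x) := by
  haveI : Fact (Nat.Prime 3) := ⟨Nat.prime_three⟩
  haveI : Finite ↥(twistedG2 K (3 ^ m)) := finite (Data.data c)
  obtain ⟨v, φ, r, hr1, hr2, hφ, hco⟩ := exists_coef c hK j hirr h2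
  obtain ⟨i, rfl⟩ := hr r hr1 hr2 (fun t u v' => (φ v)⁻¹ • φ.comp (ρ (Data.U K (3 ^ m) t u v')))
    (fun t' u' v' => ρ (Data.N c * Data.U K (3 ^ m) t' u' v' * Data.N c) v) (by
      intro t u w t' u' w'
      have h1 : ρ (Data.U K (3 ^ m) t u w) (ρ (Data.N c * Data.U K (3 ^ m) t' u' w' * Data.N c) v) =
          ρ (Data.U K (3 ^ m) t u w * (Data.N c * Data.U K (3 ^ m) t' u' w' * Data.N c)) v := by
        rw [map_mul _ (Data.U K (3 ^ m) t u w)]; rfl
      change (φ v)⁻¹ * φ (ρ (Data.U K (3 ^ m) t u w) (ρ (Data.N c * Data.U K (3 ^ m) t' u' w' * Data.N c) v)) = _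
      rw [h1, hco, inv_mul_cancel_left₀ hφ, BB_ker c])
  obtain ⟨Ψ, hΨ⟩ := exists_model c ((iterateFrobenius k 3 i).comp j) hirr hφ (fun g => by
    rw [hco, RingHom.comp_apply, iterateFrobenius_def])
  exact ⟨_, Ψ, hΨ⟩

end model

end Cfsg.Agent.H141.ReeK
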