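import Cfsg.Agent.H141.ReeK.Mat
import Cfsg.Agent.H861.SzN.Coef
import Cfsg.Agent.H861.SzN.Hw

/-!
# The irreducible representations of the Ree groups in characteristic three: matrix coefficients (helper141)

`K` a field with `3 ^ (2 m + 1)` elements, `k` algebraically closed of characteristic three, `j : K → k`, `ρ` an
irreducible representation of `²G₂(K)` over `k` of dimension at least two.

* **`exists_coef`** : `c`, `φ`, `r` with `φ (ρ(g) c) = j(B(g)₆₆) ^ r`, `1 ≤ r ≤ |K| - 1`;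
* **`coef_ker`** : the kernel.
-/

set_option autoImplicit false
set_option linter.unusedSectionVars false
set_option linter.style.haveILetI false

namespace Cfsg.Agent.H141.ReeK

open Cfsg.Lie Cfsg.Agent.ChevalleyStructure.Ree Cfsg.Agent.ChevalleyStructure.Ree.Words
  Cfsg.Agent.ChevalleyStructure.Ree.Gens Cfsg.Agent.ChevalleyStructure.Ree.Normal
  Cfsg.Agent.ChevalleyStructure.Ree.Bruhat
  Cfsg.Agent.LieRecognition.ReeSylowThree Cfsg.Agent.FixBN.ReeSplit Cfsg.Agent.H905.Md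

/-- characters of the multiplicative group of a finite field (helper991) -/
theorem exists_exp {K k : Type*} [Field K] [Fintype K] [Field k] (j : K →+* k) (a : Kˣ →* kˣ) :
    ∃ e, 1 ≤ e ∧ e ≤ Fintype.card K - 1 ∧ ∀ s : Kˣ, (a s : k) = j s ^ e := by
  classical
  obtain ⟨ζ, hζ⟩ := IsCyclic.exists_generator (α := Kˣ)
  have hord : orderOf ζ = Fintype.card K - 1 := by
    rw [orderOf_eq_card_of_forall_mem_zpowers hζ, Nat.card_eq_fintype_card, Fintype.card_units]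
  have hpos : 0 < Fintype.card K - 1 := by
    rw [← hord]; exact orderOf_pos ζ
  have hprim : IsPrimitiveRoot (j (ζ : K)) (Fintype.card K - 1) := by
    rw [← hord, ← orderOf_units]
    exact (IsPrimitiveRoot.orderOf (ζ : K)).map_of_injective j.injective
  have h1 : (a ζ : k) ^ (Fintype.card K - 1) = 1 := by
    rw [← hord, ← Units.val_pow_eq_pow_val, ← map_pow, pow_orderOf_eq_one, map_one, Units.val_one]
  have : NeZero (Fintype.card K - 1) := ⟨hpos.ne'⟩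
  obtain ⟨e, he, h2⟩ := hprim.eq_pow_of_pow_eq_one h1
  have h3 : ∀ s : Kˣ, (a s : k) = j s ^ e := by
    intro s
    obtain ⟨m, hm⟩ := (mem_powers_iff_mem_zpowers.2 (hζ s) : s ∈ Submonoid.powers ζ)
    have hm' : ζ ^ m = s := hm
    rw [← hm', map_pow, Units.val_pow_eq_pow_val, Units.val_pow_eq_pow_val, map_pow, ← h2, ← pow_mul, ← pow_mul,
      mul_comm]
  rcases Nat.eq_zero_or_pos e with rfl | h4
  · refine ⟨Fintype.card K - 1, by omega, le_rfl, fun s => ?_⟩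
    rw [h3, pow_zero, ← map_pow, FiniteField.pow_card_sub_one_eq_one _ (Units.ne_zero s), map_one]
  · exact ⟨e, h4, by omega, h3⟩

section torus

variable {K : Type*} [Field K] {θ : K →+* K} {e : ℕ} (c : Ctx θ e)

/-- the torus parameter as a unit -/
def ddU (α : Kˣ) : Kˣ := Units.mk0 (c.dd α) (c.dd_ne α)

/-- the inverse of the torus parameter -/
def ddInv (e : ℕ) : Kˣ →* Kˣ where
  toFun δ := δ ^ 2 * (δ ^ (3 * e))⁻¹
  map_one' := by rw [one_pow, one_pow, inv_one, mul_one]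
  map_mul' a b := by rw [mul_pow, mul_pow, mul_inv, mul_mul_mul_comm]

theorem ddInv_ddU (α : Kˣ) : ddInv e (ddU c α) = α := by
  apply Units.ext
  have hφ : phi θ c.h3 (α : K) ≠ 0 := by
    rw [c.phi_pow]; exact pow_ne_zero _ α.ne_zero
  change ((ddU c α : Kˣ) : K) ^ 2 * (((ddU c α ^ (3 * e))⁻¹ : Kˣ) : K) = α
  rw [Units.val_inv_eq_inv_val, Units.val_pow_eq_pow_val]
  change (c.dd α) ^ 2 * ((c.dd α) ^ (3 * e))⁻¹ = α
  rw [← c.phi_pow (c.dd α)]
  unfold Ctx.dd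
  rw [map_mul, map_pow, c.phi_phi]
  have hα : (α : K) ≠ 0 := α.ne_zero
  field_simp

theorem dd_inv (α : Kˣ) : c.dd α⁻¹ = (c.dd α)⁻¹ := by
  unfold Ctx.dd
  rw [Units.val_inv_eq_inv_val, map_inv₀, inv_pow, mul_inv]

end torus

section coef

variable {K : Type*} [Field K] [Fintype K] {m : ℕ} {θ : K →+* K} (c : Ctx θ (3 ^ m))
  {k V : Type*} [Field k] [CharP k 3] [AddCommGroup V] [Module k V]
  {ρ : ↥(twistedG2 K (3 ^ m)) →* Module.End k V}

/-- the 7-dimensional representation -/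
def BB (g : ↥(twistedG2 K (3 ^ m))) : Matrix (Fin 7) (Fin 7) K := B (g : GL chevG2.Idx K)

include c in
theorem BB_mul (g h : ↥(twistedG2 K (3 ^ m))) : BB (g * h) = BB g * BB h := c.B_mul h.2

theorem BB_one : BB (1 : ↥(twistedG2 K (3 ^ m))) = 1 := Good.Mb_one

/-- the character of the torus -/
theorem exists_chi_exp (j : K →+* k) {χ : ↥(twistedG2 K (3 ^ m)) → k} {v : V} (hv0 : v ≠ 0)
    (hχ : ∀ t ∈ hSub (Data.data c), ρ t v = χ t • v) :
    ∃ r, 1 ≤ r ∧ r ≤ Fintype.card K - 1 ∧ ∀ α : Kˣ, χ (Data.T c α) = j (c.dd α) ^ r := by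
  have hχT : ∀ α : Kˣ, ρ (Data.T c α) v = χ (Data.T c α) • v := fun α => hχ _ ⟨α, rfl⟩
  let f : Kˣ →* k :=
    { toFun := fun a => χ (Data.T c a)
      map_one' := by
        have h1 := hχT 1
        rw [(Data.data c).h_one, map_one] at h1
        refine (smul_left_injective k hv0 ?_).symm
        change (1 : k) • v = χ (Data.T c 1) • v
        rw [(Data.data c).h_one, ← h1, one_smul]
        rfl
      map_mul' := fun a b => by
        refine smul_left_injective k hv0 ?_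
        change χ (Data.T c (a * b)) • v = (χ (Data.T c a) * χ (Data.T c b)) • v
        rw [← hχT, (Data.data c).h_mul, map_mul]
        change ρ (Data.T c a) (ρ (Data.T c b) v) = _
        rw [hχT b, map_smul, hχT a, smul_smul, mul_comm] }
  obtain ⟨r, h1, h2, h3⟩ := exists_exp j (f.toHomUnits.comp (ddInv (3 ^ m)))
  refine ⟨r, h1, h2, fun α => ?_⟩
  have h4 := h3 (ddU c α)
  rw [MonoidHom.comp_apply, ddInv_ddU] at h4
  exact h4

/-- **The matrix coefficient.** -/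
theorem coef (j : K →+* k) {χ : ↥(twistedG2 K (3 ^ m)) → k} {v : V} {φ : Module.Dual k V} {r : ℕ}
    (hr : 1 ≤ r) (hU : ∀ u ∈ uSub (Data.data c), ρ u v = v) (hχ : ∀ t ∈ hSub (Data.data c), ρ t v = χ t • v)
    (hφ : ∀ u ∈ uSub (Data.data c), ∀ x, φ (ρ (Data.N c * u * (Data.N c)⁻¹) x) = φ x)
    (hw : φ (ρ (Data.N c) v) = 0) (hχr : ∀ α : Kˣ, χ (Data.T c α) = j (c.dd α) ^ r)
    (g : ↥(twistedG2 K (3 ^ m))) : φ (ρ g v) = φ v * j (BB g 6 6) ^ r := by
  have hm : ∀ a b x, ρ (a * b) x = ρ a (ρ b x) := fun a b x => by rw [map_mul]; rfl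
  have hnn : Data.N c * Data.N c = 1 := (Data.data c).n_n
  have hg : g = Data.N c * (Data.N c * g) := by rw [← mul_assoc, hnn, one_mul]
  rcases (Data.data c).bruhat (Data.N c * g) with ⟨t, u, w, α, h⟩ | ⟨t, u, w, α, t', u', w', h⟩
  · have h1 : Data.U K (3 ^ m) t u w * Data.T c α = Data.T c α * ((Data.T c α)⁻¹ * Data.U K (3 ^ m) t u w * Data.T c α) := by
      group
    have h2 : (Data.T c α)⁻¹ * Data.U K (3 ^ m) t u w * Data.T c α ∈ uSub (Data.data c) := by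
      have h3 := h_conj_mem (Data.data c) α⁻¹ (x := Data.U K (3 ^ m) t u w) ⟨t, u, w, rfl⟩
      rwa [(Data.data c).h_inv, inv_inv] at h3
    have h4 : BB g 6 6 = 0 := by
      rw [hg, h]
      change B (nU K * (wU (3 ^ m) t u w * tU (3 ^ m) α)) 6 6 = 0
      rw [c.B_n_mul (mul_mem (wU_mem _ _ _ _) (c.torus α)), c.B_wt6]
      change -(B (wU (3 ^ m) t u w) 0 6 * c.dd α) = 0
      rw [c.B_low t u w 0 6 (by decide), zero_mul, neg_zero]
    rw [h4, map_zero, zero_pow (by omega), mul_zero, hg, h, h1, hm, hm, hU _ h2, hχ _ ⟨α, rfl⟩, map_smul, map_smul, hw,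
      smul_zero]
  · have h4 : BB g 6 6 = c.dd α⁻¹ := by
      rw [hg, h]
      change B (nU K * (wU (3 ^ m) t u w * tU (3 ^ m) α * nU K * wU (3 ^ m) t' u' w')) 6 6 = _
      rw [c.B_n_mul (mul_mem (mul_mem (mul_mem (wU_mem _ _ _ _) (c.torus α)) c.nU_mem) (wU_mem _ _ _ _)), c.B_wtnw]
      change - -(B (wU (3 ^ m) t u w) 0 0 * (c.dd α)⁻¹) = _
      rw [c.B_diag, one_mul, neg_neg, dd_inv]
    have h5 : g = (Data.N c * Data.U K (3 ^ m) t u w * (Data.N c)⁻¹) * (Data.T c α⁻¹ * Data.U K (3 ^ m) t' u' w') := by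
      have h6 := (Data.data c).n_h α
      have h7 : Data.T c α⁻¹ = Data.N c * Data.T c α * (Data.N c)⁻¹ := by rw [h6, mul_inv_cancel_right]
      have h8 : (Data.N c)⁻¹ = Data.N c := (Data.data c).n_inv
      rw [h7]
      rw [hg, h]
      have h9 : (Data.N c * Data.U K (3 ^ m) t u w * (Data.N c)⁻¹) * (Data.N c * Data.T c α * (Data.N c)⁻¹ *
          Data.U K (3 ^ m) t' u' w') = Data.N c * (Data.U K (3 ^ m) t u w * Data.T c α * (Data.N c)⁻¹ *
          Data.U K (3 ^ m) t' u' w') := by group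
      rw [h9, h8]
    rw [h4, h5, hm, hφ _ ⟨t, u, w, rfl⟩, hm, hU _ ⟨t', u', w', rfl⟩, hχ _ ⟨α⁻¹, rfl⟩, map_smul, smul_eq_mul, hχr, mul_comm]

include c in
/-- **The matrix coefficient of the highest weight.** -/
theorem exists_coef [IsAlgClosed k] [FiniteDimensional k V] (hK : Fintype.card K = 3 ^ (2 * m + 1)) (j : K →+* k)
    (hirr : ∀ L : Submodule k V, (∀ g, ∀ v ∈ L, ρ g v ∈ L) → L = ⊥ ∨ L = ⊤) (h2 : 2 ≤ Module.finrank k V) :
    ∃ (v : V) (φ : Module.Dual k V) (r : ℕ), 1 ≤ r ∧ r ≤ Fintype.card K - 1 ∧ φ v ≠ 0 ∧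
      ∀ g, φ (ρ g v) = φ v * j (BB g 6 6) ^ r := by
  haveI : Fact (Nat.Prime 3) := ⟨Nat.prime_three⟩
  haveI : Finite ↥(twistedG2 K (3 ^ m)) := finite (Data.data c)
  obtain ⟨v, χ, φ, hU, hχ, hφ, hφc, hw⟩ := H861.SzN.exists_hw (ree_sp1 hK (Data.data c)) (reeT_comm (Data.data c)) hirr h2
  have hv0 : v ≠ 0 := by
    rintro rfl
    exact hφc (map_zero _)
  obtain ⟨r, hr1, hr2, hr⟩ := exists_chi_exp c j hv0 hχ
  exact ⟨v, φ, r, hr1, hr2, hφc, coef c j hr1 hU hχ hφ hw hr⟩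

/-- **The matrix coefficient of the highest weight**, with the torus and the unipotent elements. -/
theorem exists_coef' [IsAlgClosed k] [FiniteDimensional k V] (hK : Fintype.card K = 3 ^ (2 * m + 1)) (j : K →+* k)
    (hirr : ∀ L : Submodule k V, (∀ g, ∀ v ∈ L, ρ g v ∈ L) → L = ⊥ ∨ L = ⊤) (h2 : 2 ≤ Module.finrank k V) :
    ∃ (v : V) (φ : Module.Dual k V) (r : ℕ), 1 ≤ r ∧ r ≤ Fintype.card K - 1 ∧ φ v = 1 ∧
      (∀ t u w, ρ (Data.U K (3 ^ m) t u w) v = v) ∧ (∀ α : Kˣ, ρ (Data.T c α) v = j (c.dd α) ^ r • v) ∧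
      (∀ t u w x, φ (ρ (Data.N c * Data.U K (3 ^ m) t u w * Data.N c) x) = φ x) ∧ φ (ρ (Data.N c) v) = 0 ∧
      ∀ g, φ (ρ g v) = j (BB g 6 6) ^ r := by
  haveI : Fact (Nat.Prime 3) := ⟨Nat.prime_three⟩
  haveI : Finite ↥(twistedG2 K (3 ^ m)) := finite (Data.data c)
  obtain ⟨v, χ, φ, hU, hχ, hφ, hφc, hw⟩ := H861.SzN.exists_hw (ree_sp1 hK (Data.data c)) (reeT_comm (Data.data c)) hirr h2
  have hv0 : v ≠ 0 := by
    rintro rfl
    exact hφc (map_zero _)
  obtain ⟨r, hr1, hr2, hr⟩ := exists_chi_exp c j hv0 hχ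
  have hco := coef c j hr1 hU hχ hφ hw hr
  refine ⟨v, (φ v)⁻¹ • φ, r, hr1, hr2, inv_mul_cancel₀ hφc, fun t u w => hU _ ⟨t, u, w, rfl⟩, fun α => ?_,
    fun t u w x => ?_, ?_, fun g => ?_⟩
  · rw [← hr]
    exact hχ _ ⟨α, rfl⟩
  · have h1 := hφ _ ⟨t, u, w, rfl⟩ x
    rw [(Data.data c).n_inv] at h1
    change (φ v)⁻¹ * φ _ = (φ v)⁻¹ * φ _
    rw [h1]
  · change (φ v)⁻¹ * φ _ = 0
    rw [hw, mul_zero]
  · change (φ v)⁻¹ * φ _ = _
    rw [hco, inv_mul_cancel_left₀ hφc]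

include c in
/-- the row of `U(t,u,v)` -/
theorem BB_row (t u v : K) (i : Fin 7) : BB (Data.U K (3 ^ m) t u v) 6 i = frow (3 ^ m) t u v i := B_row c t u v i

/-- the last column of `n U(t,u,v) n` -/
theorem BB_col (t u v : K) (i : Fin 7) :
    BB (Data.N c * Data.U K (3 ^ m) t u v * Data.N c) i 6 = fcol (3 ^ m) t u v i.rev := by
  change B (nU K * wU (3 ^ m) t u v * nU K) i 6 = _
  rw [c.B_mul_n, c.B_n_mul (wU_mem _ _ _ _), neg_neg]
  exact B_col c t u v i.rev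

/-- **The kernel.** -/
theorem BB_ker (t u v t' u' v' : K) :
    BB (Data.U K (3 ^ m) t u v * (Data.N c * Data.U K (3 ^ m) t' u' v' * Data.N c)) 6 6 =
      ker (3 ^ m) t u v t' u' v' := by
  rw [BB_mul c, Matrix.mul_apply]
  unfold ker
  refine Finset.sum_congr rfl fun i _ => ?_
  rw [BB_row c, BB_col c]

end coef

end Cfsg.Agent.H141.ReeK
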